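import Groth.Prelude.Def_Red
import Mathlib.CategoryTheory.Monoidal.Cartesian.Grp
import Groth.Agent.S0346
import Mathlib.AlgebraicGeometry.Morphisms.UniversallyOpen
import Mathlib.AlgebraicGeometry.Morphisms.FinitePresentation

/-! Quasi-compactness of homomorphisms and its descent along surjections. -/

universe u

open CategoryTheory Limits AlgebraicGeometry MonoidalCategory CartesianMonoidalCategory MonObj GrpObj

attribute [local instance] CategoryTheory.Hom.monoid CategoryTheory.Hom.group
set_option linter.style.haveILetI false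

namespace Groth.Agent.Deform.QCDescent

variable {k : Type u} [Field k]

/-- An open surjection is quasi-compact if its first projection from the fibre square is. -/
theorem quasiCompact_of_isPullback {P X Y : Scheme.{u}} {a b : P ⟶ X} {q : X ⟶ Y}
    (h : IsPullback a b q q) [QuasiCompact a] (hopen : IsOpenMap q) [Surjective q] : QuasiCompact q := by
  rw [quasiCompact_iff]
  intro U hUo hUc
  have hpre : IsOpen (q ⁻¹' U) := hUo.preimage q.continuous
  have hex : ∀ x : X, x ∈ q ⁻¹' U → ∃ V : X.Opens, IsCompact (V : Set X) ∧ x ∈ V ∧ (V : Set X) ⊆ q ⁻¹' U := by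
    intro x hx
    obtain ⟨V, hVaff, hxV, hVU⟩ :=
      TopologicalSpace.Opens.isBasis_iff_nbhd.mp X.isBasis_affineOpens (U := ⟨_, hpre⟩) hx
    exact ⟨V, hVaff.isCompact, hxV, hVU⟩
  choose V hVc hxV hVU using hex
  obtain ⟨t, ht⟩ := hUc.elim_finite_subcover (fun x : q ⁻¹' U => q '' (V x.1 x.2 : Set X))
    (fun x => hopen _ (V x.1 x.2).2) (fun y hy => by
      obtain ⟨x, rfl⟩ := q.surjective y
      exact Set.mem_iUnion.2 ⟨⟨x, hy⟩, x, hxV x hy, rfl⟩)
  let W : TopologicalSpace.Opens X := ⨆ x ∈ t, V x.1 x.2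
  have hW : IsCompact (W : Set X) := by
    simp only [W, TopologicalSpace.Opens.coe_iSup]
    exact t.finite_toSet.isCompact_biUnion fun x _ => hVc _ _
  have hWU : (W : Set X) ⊆ q ⁻¹' U := by
    simp only [W, TopologicalSpace.Opens.coe_iSup, Set.iUnion_subset_iff]
    exact fun x _ => hVU _ _
  have hWq : U ⊆ q '' (W : Set X) := fun y hy => by
    obtain ⟨x, hx, hy'⟩ := Set.mem_iUnion₂.1 (ht hy)
    obtain ⟨z, hz, rfl⟩ := hy'
    refine ⟨z, ?_, rfl⟩
    simp only [W, TopologicalSpace.Opens.coe_iSup]
    exact Set.mem_iUnion₂.2 ⟨x, hx, hz⟩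
  have key : q ⁻¹' U = b '' (a ⁻¹' (W : Set X)) := by
    apply subset_antisymm
    · intro x hx
      obtain ⟨w, hw, hwx⟩ := hWq hx
      obtain ⟨z, hz1, hz2⟩ := Scheme.Pullback.exists_preimage_pullback w x hwx
      refine ⟨h.isoPullback.inv z, ?_, ?_⟩
      · show a (h.isoPullback.inv z) ∈ (W : Set X)
        rw [← Scheme.Hom.comp_apply, h.isoPullback_inv_fst, hz1]
        exact hw
      · rw [← Scheme.Hom.comp_apply, h.isoPullback_inv_snd, hz2]
    · rintro _ ⟨z, hz, rfl⟩
      show q (b z) ∈ U
      rw [← Scheme.Hom.comp_apply, ← h.w, Scheme.Hom.comp_apply]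
      exact hWU hz
  rw [key]
  exact (QuasiCompact.isCompact_preimage _ W.2 hW).image b.continuous

/-- The fibre square of a homomorphism with itself is the product with its kernel. -/
theorem isPullback_shear {S : Scheme.{u}} {G H K : Over S} [GrpObj G] [GrpObj H] (π : G ⟶ H) [IsMonHom π] (j : K ⟶ G) (hk : AlgGrp.IsKernel j π) :
    IsPullback (fst G K) (fst G K * (snd G K ≫ j)) π π := by
  have hk' : IsPullback j (toUnit K) π η[H] := hk
  have h1 : j ≫ π = 1 := by rw [hk'.w, MonObj.one_eq_one, MonObj.comp_one]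
  have hw : fst G K ≫ π = (fst G K * (snd G K ≫ j)) ≫ π := by
    rw [MonObj.mul_comp, Category.assoc, h1, MonObj.comp_one, _root_.mul_one]
  refine IsPullback.of_isLimit' ⟨hw⟩ (PullbackCone.IsLimit.mk _ (fun s => lift s.fst
    (hk'.lift (s.fst⁻¹ * s.snd) (toUnit _) ?_)) (fun s => by simp) (fun s => ?_) (fun s m h₁ h₂ => ?_))
  · rw [MonObj.mul_comp, GrpObj.inv_comp, s.condition, inv_mul_cancel, MonObj.one_eq_one, MonObj.comp_one]
  · rw [MonObj.comp_mul, lift_fst, lift_snd_assoc, hk'.lift_fst, mul_inv_cancel_left]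
  · apply CartesianMonoidalCategory.hom_ext
    · simp [h₁]
    · apply hk'.hom_ext _ (toUnit_unique _ _)
      rw [lift_snd, hk'.lift_fst]
      rw [MonObj.comp_mul, h₁, ← Category.assoc] at h₂
      rw [← h₂, inv_mul_cancel_left]

/-- A faithfully flat homomorphism with quasi-compact kernel is quasi-compact. -/
theorem quasiCompact_of_kernel {G H N : Over (Spec (CommRingCat.of k))} [GrpObj G] [GrpObj H]
    [LocallyOfFiniteType G.hom] [LocallyOfFiniteType H.hom] (π : G ⟶ H) [IsMonHom π] [Flat π.left]
    [Surjective π.left] (j : N ⟶ G) (hk : AlgGrp.IsKernel j π) [CompactSpace N.left] :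
    QuasiCompact π.left := by
  have h := (isPullback_shear π j hk).map (Over.forget _)
  haveI : QuasiCompact N.hom := (quasiCompact_iff_compactSpace (f := N.hom)).2 ‹_›
  haveI : QuasiCompact (fst G N).left := inferInstanceAs (QuasiCompact (pullback.fst G.hom N.hom))
  haveI : LocallyOfFiniteType (π.left ≫ H.hom) := by rw [Over.w π]; infer_instance
  haveI : LocallyOfFiniteType π.left := locallyOfFiniteType_of_comp π.left H.hom
  haveI : IsLocallyNoetherian H.left := LocallyOfFiniteType.isLocallyNoetherian H.hom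
  haveI : LocallyOfFinitePresentation π.left := inferInstance
  haveI : UniversallyOpen π.left := inferInstance
  exact @quasiCompact_of_isPullback _ _ _ _ _ _ h ‹QuasiCompact (fst G N).left› π.left.isOpenMap ‹_›

/-- Groups over a field are quasi-separated. -/
theorem quasiSeparated_hom {G : Over (Spec (CommRingCat.of k))} [GrpObj G] : QuasiSeparated G.hom := by
  rw [(Groth.Agent.S0346.result _ G).2, quasiCompact_iff]
  intro U _ _
  haveI : Subsingleton (𝟙_ (Over (Spec (CommRingCat.of k)))).left :=
    inferInstanceAs (Subsingleton (Spec (CommRingCat.of k)))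
  exact Set.Subsingleton.isCompact Set.subsingleton_of_subsingleton

/-- Quasi-compactness descends along a surjective quasi-compact base change. -/
theorem quasiCompact_of_comm {X X' Y Y' : Scheme.{u}} (i : X ⟶ Y) (i' : X' ⟶ Y') (p : X' ⟶ X) (p' : Y' ⟶ Y)
    (w : p ≫ i = i' ≫ p') [Surjective p] [QuasiCompact p'] [QuasiCompact i'] : QuasiCompact i := by
  rw [quasiCompact_iff]
  intro U hUo hUc
  have hc := QuasiCompact.isCompact_preimage (f := i' ≫ p') U hUo hUc
  have key : i ⁻¹' U = p '' ((i' ≫ p') ⁻¹' U) := by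
    apply subset_antisymm
    · intro x hx
      obtain ⟨z, rfl⟩ := p.surjective x
      refine ⟨z, ?_, rfl⟩
      show (i' ≫ p') z ∈ U
      rw [← w, Scheme.Hom.comp_apply]
      exact hx
    · rintro _ ⟨z, hz, rfl⟩
      show i (p z) ∈ U
      rw [← Scheme.Hom.comp_apply, w]
      exact hz
  rw [key]
  exact hc.image p.continuous

end Groth.Agent.Deform.QCDescent
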